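import Groth.Prelude.Def_WeilRes
import Groth.Prelude.Def_GmPts
import Mathlib.RingTheory.Ideal.Quotient.Operations
import Mathlib.RingTheory.TensorProduct.Quotient
import Mathlib.RingTheory.Ideal.GoingUp
import Mathlib.AlgebraicGeometry.Pullbacks

/-!
Points of the Weil restriction of the multiplicative group lift from the residue fields of a
semilocal ring.
-/

set_option autoImplicit false
set_option linter.style.haveILetI false
set_option backward.isDefEq.respectTransparency false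

universe u

open CategoryTheory CategoryTheory.Limits AlgebraicGeometry TensorProduct

noncomputable section

namespace Groth.L04.WeilGmLift

variable (A B : Type u) [CommRing A] [CommRing B] [Algebra A B]

theorem includeRight_surjective (m : Ideal A) :
    Function.Surjective (Algebra.TensorProduct.includeRight : B →ₐ[A] (A ⧸ m) ⊗[A] B) := by
  intro z
  induction z using TensorProduct.induction_on with
  | zero => exact ⟨0, map_zero _⟩
  | tmul a b =>
    obtain ⟨a, rfl⟩ := Ideal.Quotient.mk_surjective a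
    refine ⟨a • b, ?_⟩
    show (1 : A ⧸ m) ⊗ₜ[A] (a • b) = Ideal.Quotient.mk m a ⊗ₜ[A] b
    rw [← TensorProduct.smul_tmul, Algebra.smul_def, mul_one]
    rfl
  | add x y hx hy =>
    obtain ⟨a, rfl⟩ := hx
    obtain ⟨b, rfl⟩ := hy
    exact ⟨a + b, map_add _ a b⟩

theorem map_le_ker (m : Ideal A) :
    m.map (algebraMap A B) ≤ RingHom.ker (Algebra.TensorProduct.includeRight : B →ₐ[A] (A ⧸ m) ⊗[A] B).toRingHom := by
  rw [Ideal.map_le_iff_le_comap]
  intro a ha
  rw [Ideal.mem_comap, RingHom.mem_ker]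
  show Algebra.TensorProduct.includeRight (algebraMap A B a) = 0
  rw [AlgHom.commutes, Algebra.TensorProduct.algebraMap_apply]
  show Ideal.Quotient.mk m a ⊗ₜ[A] (1 : B) = 0
  rw [Ideal.Quotient.eq_zero_iff_mem.2 ha, zero_tmul]

/-- Units of the fibres over the closed points lift to a unit of a finite algebra over a semilocal
ring. -/
theorem exists_unit [Algebra.IsIntegral A B] [Finite (MaximalSpectrum A)]
    (v : ∀ m : MaximalSpectrum A, ((A ⧸ m.asIdeal) ⊗[A] B)ˣ) :
    ∃ x : Bˣ, ∀ m : MaximalSpectrum A,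
      Algebra.TensorProduct.includeRight (x : B) = (v m : (A ⧸ m.asIdeal) ⊗[A] B) := by
  have hcop : Pairwise fun i j : MaximalSpectrum A =>
      IsCoprime (i.asIdeal.map (algebraMap A B)) (j.asIdeal.map (algebraMap A B)) := fun i j hij => by
    have h : i.asIdeal ⊔ j.asIdeal = ⊤ :=
      Ideal.IsMaximal.coprime_of_ne i.isMaximal j.isMaximal fun e => hij (MaximalSpectrum.ext e)
    show IsCoprime _ _
    rw [Ideal.isCoprime_iff_sup_eq, ← Ideal.map_sup, h, Ideal.map_top]
  choose b hb using fun m : MaximalSpectrum A => includeRight_surjective A B m.asIdeal (v m : _)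
  obtain ⟨x, hx⟩ := Ideal.exists_forall_sub_mem_ideal hcop b
  have hxv : ∀ m : MaximalSpectrum A,
      Algebra.TensorProduct.includeRight x = (v m : (A ⧸ m.asIdeal) ⊗[A] B) := fun m => by
    rw [← hb m, ← sub_eq_zero, ← map_sub]
    exact map_le_ker A B m.asIdeal (hx m)
  have hu : IsUnit x := by
    by_contra hnu
    obtain ⟨M, hM, hxM⟩ := exists_max_ideal_of_mem_nonunits hnu
    let m : MaximalSpectrum A := ⟨M.comap (algebraMap A B), Ideal.isMaximal_comap_of_isIntegral_of_isMaximal M⟩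
    let ψ : (A ⧸ m.asIdeal) ⊗[A] B →ₐ[A] B ⧸ M :=
      Algebra.TensorProduct.lift
        (Ideal.Quotient.liftₐ m.asIdeal (Algebra.ofId A (B ⧸ M)) fun a ha =>
          Ideal.Quotient.eq_zero_iff_mem.2 ha)
        (Ideal.Quotient.mkₐ A M) fun _ _ => Commute.all _ _
    have h1 : ψ (Algebra.TensorProduct.includeRight x) = Ideal.Quotient.mk M x := by
      simp [ψ]
    have h2 : IsUnit (ψ (Algebra.TensorProduct.includeRight x)) := (hxv m ▸ (v m).isUnit).map ψ
    rw [h1, Ideal.Quotient.eq_zero_iff_mem.2 hxM] at h2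
    haveI : Nontrivial (B ⧸ M) := Ideal.Quotient.nontrivial_iff.2 hM.ne_top
    exact not_isUnit_zero h2
  exact ⟨hu.unit, hxv⟩

theorem main [Algebra.IsIntegral A B] [Finite (MaximalSpectrum A)]
    (P : Over (Spec (CommRingCat.of A)))
    (q : Red.bc (Spec.map (CommRingCat.ofHom (algebraMap A B))) P ⟶ Red.Gm (Spec (CommRingCat.of B)))
    (hP : WeilRes.IsWeilRes (Spec.map (CommRingCat.ofHom (algebraMap A B))) (Red.Gm (Spec (CommRingCat.of B))) P q)
    (u : ∀ m : MaximalSpectrum A, Spec (CommRingCat.of (A ⧸ m.asIdeal)) ⟶ P.left)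
    (hu : ∀ m : MaximalSpectrum A, u m ≫ P.hom = (Spec.map (CommRingCat.ofHom (Ideal.Quotient.mk m.asIdeal)))) :
    ∃ s : Spec (CommRingCat.of A) ⟶ P.left, s ≫ P.hom = 𝟙 (Spec (CommRingCat.of A)) ∧
      ∀ m : MaximalSpectrum A, (Spec.map (CommRingCat.ofHom (Ideal.Quotient.mk m.asIdeal))) ≫ s = u m := by
  let f : Spec (CommRingCat.of B) ⟶ Spec (CommRingCat.of A) := Spec.map (CommRingCat.ofHom (algebraMap A B))
  let TA : Over (Spec (CommRingCat.of A)) := Over.mk (𝟙 _)
  let T : MaximalSpectrum A → Over (Spec (CommRingCat.of A)) := fun m =>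
    Over.mk (Spec.map (CommRingCat.ofHom (Ideal.Quotient.mk m.asIdeal)))
  let t : ∀ m, T m ⟶ TA := fun m =>
    Over.homMk (Spec.map (CommRingCat.ofHom (Ideal.Quotient.mk m.asIdeal))) (Category.comp_id _)
  let um : ∀ m, T m ⟶ P := fun m => Over.homMk (u m) (hu m)
  let w : ∀ m, Γ((Red.bc f (T m)).left, ⊤)ˣ := fun m => GmPts.unitOfPt (WeilRes.restr f q (T m) (um m))
  let ρ : ∀ m : MaximalSpectrum A, Spec (CommRingCat.of ((A ⧸ m.asIdeal) ⊗[A] B)) ⟶ (Red.bc f (T m)).left :=
    fun m => (pullbackSpecIso A (A ⧸ m.asIdeal) B).inv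
  haveI : ∀ m, IsIso (ρ m) := fun m => Iso.isIso_inv _
  let e : ∀ m : MaximalSpectrum A, Γ((Red.bc f (T m)).left, ⊤) →+* (A ⧸ m.asIdeal) ⊗[A] B := fun m =>
    ((ρ m).appTop ≫ (Scheme.ΓSpecIso (CommRingCat.of ((A ⧸ m.asIdeal) ⊗[A] B))).hom).hom
  have he : ∀ m, Function.Bijective (e m) := fun m => by
    haveI : IsIso ((ρ m).appTop) := inferInstanceAs (IsIso ((ρ m).app ⊤))
    exact ConcreteCategory.bijective_of_isIso
      ((ρ m).appTop ≫ (Scheme.ΓSpecIso (CommRingCat.of ((A ⧸ m.asIdeal) ⊗[A] B))).hom)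
  obtain ⟨x, hx⟩ := exists_unit A B fun m => Units.map (e m).toMonoidHom (w m)
  let sn : (Red.bc f TA).left ⟶ Spec (CommRingCat.of B) := pullback.snd _ _
  let β : B →+* Γ((Red.bc f TA).left, ⊤) :=
    ((Scheme.ΓSpecIso (CommRingCat.of B)).inv ≫ sn.appTop).hom
  have hβ : ∀ m (b : B), e m (((Over.pullback f).map (t m)).left.appTop (β b)) =
      Algebra.TensorProduct.includeRight b := fun m b => by
    have hc : ρ m ≫ ((Over.pullback f).map (t m)).left ≫ sn =
        Spec.map (CommRingCat.ofHom (Algebra.TensorProduct.includeRight :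
          B →ₐ[A] (A ⧸ m.asIdeal) ⊗[A] B).toRingHom) := by
      rw [show ((Over.pullback f).map (t m)).left ≫ sn = pullback.snd (T m).hom f from pullback.lift_snd _ _ _]
      exact pullbackSpecIso_inv_snd A (A ⧸ m.asIdeal) B
    have h := congr(Scheme.Hom.appTop $hc)
    rw [Scheme.Hom.comp_appTop, Scheme.Hom.comp_appTop] at h
    show (Scheme.ΓSpecIso _).hom ((ρ m).appTop (((Over.pullback f).map (t m)).left.appTop
      (sn.appTop ((Scheme.ΓSpecIso (CommRingCat.of B)).inv b)))) = _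
    refine (congrArg _ (congr($h ((Scheme.ΓSpecIso (CommRingCat.of B)).inv b)))).trans ?_
    let φ : CommRingCat.of B ⟶ CommRingCat.of ((A ⧸ m.asIdeal) ⊗[A] B) :=
      CommRingCat.ofHom (Algebra.TensorProduct.includeRight : B →ₐ[A] (A ⧸ m.asIdeal) ⊗[A] B).toRingHom
    have key : (Scheme.ΓSpecIso (CommRingCat.of B)).inv ≫ (Spec.map φ).appTop ≫
        (Scheme.ΓSpecIso (CommRingCat.of ((A ⧸ m.asIdeal) ⊗[A] B))).hom = φ := by
      rw [Scheme.ΓSpecIso_naturality, Iso.inv_hom_id_assoc]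
    exact congr($key b)
  obtain ⟨g, hg⟩ := (hP TA).2 (GmPts.ptOfUnit (Units.map β.toMonoidHom x))
  have hgu : ∀ m, t m ≫ g = um m := fun m => by
    apply (hP (T m)).1
    refine Function.LeftInverse.injective (f := GmPts.unitOfPt) (g := GmPts.ptOfUnit) GmPts.ptOfUnit_unitOfPt ?_
    show GmPts.unitOfPt _ = w m
    rw [WeilRes.restr_comp, hg, GmPts.unitOfPt_comp, GmPts.unitOfPt_ptOfUnit]
    apply Units.ext
    apply (he m).1
    exact (hβ m x).trans (hx m)
  exact ⟨g.left, Over.w g, fun m => congrArg Over.Hom.left (hgu m)⟩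

end Groth.L04.WeilGmLift
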